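import Mathlib
import Cfsg.Agent.TcData.Suz.R2.Tab

set_option autoImplicit false
set_option Elab.async false
set_option maxRecDepth 100000
set_option linter.all false

namespace Cfsg.Agent.TcData.Suz.R2

open Cfsg.Spor Cfsg.Agent.Lib.TcFacts Cfsg.Agent.Lib.TcBits Cfsg.Agent.Lib.TcPres Cfsg.Spor.Suz Cfsg.Agent.TcData.Suz

theorem b0 : Block F al 0 64 48 :=
  block_of_check (k := 6) rfl (by decide +kernel)

theorem b1 : Block F al 64 128 34 :=
  block_of_check (k := 6) rfl (by decide +kernel)

theorem b2 : Block F al 128 192 26 :=
  block_of_check (k := 6) rfl (by decide +kernel)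

theorem b3 : Block F al 192 256 29 :=
  block_of_check (k := 6) rfl (by decide +kernel)

theorem b4 : Block F al 256 320 7 :=
  block_of_check (k := 6) rfl (by decide +kernel)

theorem b5 : Block F al 320 384 33 :=
  block_of_check (k := 6) rfl (by decide +kernel)

theorem b6 : Block F al 384 448 7 :=
  block_of_check (k := 6) rfl (by decide +kernel)

theorem b7 : Block F al 448 512 30 :=
  block_of_check (k := 6) rfl (by decide +kernel)

theorem b8 : Block F al 512 576 52 :=
  block_of_check (k := 6) rfl (by decide +kernel)

theorem b9 : Block F al 576 640 14 :=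
  block_of_check (k := 6) rfl (by decide +kernel)

end Cfsg.Agent.TcData.Suz.R2
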